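import Groth.Agent.H1.InfTorsor.Core
import Groth.Prelude.Def_NonAbH2

/-!
# helper1: finite connected group schemes over a field are one-point; torsors under them
-/

set_option autoImplicit false
universe u
open CategoryTheory Limits MonoidalCategory CartesianMonoidalCategory MonObj GrpObj AlgebraicGeometry
  TensorProduct

namespace Groth.Agent.H1.InfTorsor

variable {K : Type u} [Field K]

/-- A finite connected `K`-scheme has a single point. -/
theorem subsingleton_of_isFinite_of_connected
    (G : Over (Spec (CommRingCat.of K))) [IsFinite G.hom] [ConnectedSpace G.left] :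
    Subsingleton ↥G.left := by
  haveI : IsAffine G.left := isAffine_of_isAffineHom G.hom
  have hfin : (G.hom.appTop).hom.Finite := Scheme.Hom.finite_appTop G.hom
  let φ : K →+* Γ(G.left, ⊤) := ((Scheme.ΓSpecIso (CommRingCat.of K)).inv ≫ G.hom.appTop).hom
  have hφ : φ.Finite := by
    have h1 : ((Scheme.ΓSpecIso (CommRingCat.of K)).inv).hom.Finite :=
      RingHom.Finite.of_surjective _
        ((ConcreteCategory.bijective_of_isIso (Scheme.ΓSpecIso (CommRingCat.of K)).inv).2)
    exact hfin.comp h1
  letI := φ.toAlgebra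
  haveI : Module.Finite K Γ(G.left, ⊤) := hφ
  haveI : IsArtinianRing Γ(G.left, ⊤) := IsArtinianRing.of_finite K _
  haveI : DiscreteTopology (PrimeSpectrum Γ(G.left, ⊤)) := inferInstance
  haveI : DiscreteTopology ↥G.left :=
    (G.left.isoSpec.hom.homeomorph).isEmbedding.discreteTopology
  exact PreconnectedSpace.trivial_of_discrete

/-- tensor square of an unramified essentially finite type algebra over a field is reduced. -/
theorem isReduced_tensor_of_unramified (B : Type u) [CommRing B] [Algebra K B]
    [Algebra.FormallyUnramified K B] [Algebra.EssFiniteType K B] : IsReduced (B ⊗[K] B) := by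
  haveI : Algebra.FormallyUnramified K (B ⊗[K] B) :=
    Algebra.FormallyUnramified.comp K B (B ⊗[K] B)
  haveI : Algebra.EssFiniteType K (B ⊗[K] B) := Algebra.EssFiniteType.comp K B (B ⊗[K] B)
  exact Algebra.FormallyUnramified.isReduced_of_field K (B ⊗[K] B)

/-- ring-hom form of the core lemma. -/
theorem exists_section_of_ringHom (G X : Over (Spec (CommRingCat.of K))) [GrpObj G]
    [IsAffine G.left] [Subsingleton ↥G.left]
    (a : AlgGrp.Action G X) (ha : IsIso (lift a.act (snd G X)))
    (B : Type u) [CommRing B] [Nontrivial B] (ψ : K →+* B)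
    (h1 : @Algebra.FormallyUnramified K B _ _ ψ.toAlgebra)
    (h2 : @Algebra.EssFiniteType K B _ _ ψ.toAlgebra)
    (x : Spec (CommRingCat.of B) ⟶ X.left)
    (hx : x ≫ X.hom = Spec.map (CommRingCat.ofHom ψ)) :
    ∃ s : Spec (CommRingCat.of K) ⟶ X.left, s ≫ X.hom = 𝟙 _ := by
  letI := ψ.toAlgebra
  haveI : Algebra.FormallyUnramified K B := h1
  haveI : Algebra.EssFiniteType K B := h2
  haveI := isReduced_tensor_of_unramified (K := K) B
  exact exists_section G X a ha B x hx

/-- from local triviality for `precoverage P` over a field: a nonempty member with a section. -/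
theorem exists_member {P : MorphismProperty Scheme.{u}} (X : Over (Spec (CommRingCat.of K)))
    (h : NonAbH1.IsLocallyTrivialFor (Scheme.precoverage P) X) :
    ∃ (Y : Scheme.{u}) (f : Y ⟶ Spec (CommRingCat.of K)), P f ∧ Nonempty Y ∧
      ∃ s : Y ⟶ X.left, s ≫ X.hom = f := by
  obtain ⟨R, hR, hsec⟩ := h
  have h1 : R ∈ Scheme.jointlySurjectivePrecoverage _ := hR.1
  rw [Presieve.mem_comap_jointlySurjectivePrecoverage_iff] at h1
  obtain ⟨τ⟩ : Nonempty ↥(Spec (CommRingCat.of K)) := inferInstance
  obtain ⟨Y, f, hf, t', ht'⟩ := h1 τ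
  exact ⟨Y, f, hR.2 hf, ⟨t'⟩, hsec f hf⟩

/-- a nonempty scheme has a nonempty affine open. -/
theorem exists_affine_point (Y : Scheme.{u}) [Nonempty Y] :
    ∃ (R : CommRingCat.{u}) (j : Spec R ⟶ Y), IsOpenImmersion j ∧ Nontrivial R := by
  obtain ⟨y⟩ := ‹Nonempty Y›
  refine ⟨Y.affineOpenCover.X (Y.affineOpenCover.idx y), Y.affineOpenCover.f _,
    Y.affineOpenCover.map_prop _, ?_⟩
  obtain ⟨z, hz⟩ := Y.affineOpenCover.covers y
  exact PrimeSpectrum.nonempty_iff_nontrivial.mp ⟨z⟩

/-- étale torsors under a finite connected group scheme over a field are trivial. -/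
theorem hasSection_etale (G X : Over (Spec (CommRingCat.of K))) [GrpObj G] [IsFinite G.hom]
    [ConnectedSpace G.left] (a : AlgGrp.Action G X)
    (h : NonAbH1.IsTorsorFor Scheme.etalePrecoverage a) :
    NonAbH1.HasSectionOver X (𝟙 (Spec (CommRingCat.of K))) := by
  haveI : IsAffine G.left := isAffine_of_isAffineHom G.hom
  haveI := subsingleton_of_isFinite_of_connected G
  obtain ⟨Y, f, hf, hne, s, hs⟩ := exists_member (P := @Etale) X h.2
  haveI : Etale f := hf
  obtain ⟨R, j, hj, hR⟩ := exists_affine_point Y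
  let φ := Spec.preimage (j ≫ f)
  have hφ : Spec.map φ = j ≫ f := Spec.map_preimage _
  have het : Etale (Spec.map φ) := by rw [hφ]; infer_instance
  rw [HasRingHomProperty.Spec_iff (P := @Etale)] at het
  letI := φ.hom.toAlgebra
  haveI : Algebra.Etale K R := het
  refine exists_section_of_ringHom G X a h.1 R φ.hom inferInstance inferInstance (j ≫ s) ?_
  rw [Category.assoc, hs, ← hφ]
  rfl

/-- fppf torsors under a finite connected group scheme over a perfect field are trivial. -/
theorem hasSection_fppf_perfect [PerfectField K]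
    (G X : Over (Spec (CommRingCat.of K))) [GrpObj G] [IsFinite G.hom]
    [ConnectedSpace G.left] (a : AlgGrp.Action G X)
    (h : NonAbH1.IsTorsorFor Scheme.fppfPrecoverage a) :
    NonAbH1.HasSectionOver X (𝟙 (Spec (CommRingCat.of K))) := by
  haveI : IsAffine G.left := isAffine_of_isAffineHom G.hom
  haveI := subsingleton_of_isFinite_of_connected G
  obtain ⟨Y, f, hf, hne, s, hs⟩ :=
    exists_member (P := @Flat ⊓ @LocallyOfFinitePresentation) X h.2
  haveI : LocallyOfFinitePresentation f := hf.2
  obtain ⟨R, j, hj, hR⟩ := exists_affine_point Y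
  let φ := Spec.preimage (j ≫ f)
  have hφ : Spec.map φ = j ≫ f := Spec.map_preimage _
  have hft : LocallyOfFiniteType (Spec.map φ) := by rw [hφ]; infer_instance
  rw [HasRingHomProperty.Spec_iff (P := @LocallyOfFiniteType)] at hft
  obtain ⟨m, hm⟩ := Ideal.exists_maximal R
  letI : Field (R ⧸ m) := Ideal.Quotient.field m
  let ψ : K →+* (R ⧸ m) := (Ideal.Quotient.mk m).comp φ.hom
  have hψ : ψ.FiniteType := hft.comp_surjective Ideal.Quotient.mk_surjective
  letI := ψ.toAlgebra
  haveI : Algebra.FiniteType K (R ⧸ m) := hψ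
  haveI : Module.Finite K (R ⧸ m) := finite_of_finite_type_of_isJacobsonRing K (R ⧸ m)
  haveI : Algebra.IsSeparable K (R ⧸ m) := inferInstance
  haveI := Algebra.FormallyUnramified.of_isSeparable K (R ⧸ m)
  refine exists_section_of_ringHom G X a h.1 (R ⧸ m) ψ inferInstance inferInstance
    (Spec.map (CommRingCat.ofHom (Ideal.Quotient.mk m)) ≫ j ≫ s) ?_
  rw [Category.assoc, Category.assoc, hs, ← hφ, ← Spec.map_comp]
  rfl

end Groth.Agent.H1.InfTorsor
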