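import Mathlib
import Groth.Prelude.Def_AlgGrp

/-!
# helper1: torsors under infinitesimal group schemes over a field

Core lemma: let `G` be an affine `K`-group scheme whose underlying space is a single point, acting
on `X` as a pseudo-torsor.  If `X` has a point with values in a nonzero `K`-algebra `B` with
`B ⊗_K B` reduced, then `X` has a `K`-point (fpqc descent: the two pullbacks of the point to
`B ⊗_K B` differ by a point of `G` with values in a reduced ring, which is trivial).
-/

set_option autoImplicit false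
universe u
open CategoryTheory Limits MonoidalCategory CartesianMonoidalCategory MonObj GrpObj AlgebraicGeometry
  TensorProduct

namespace Groth.Agent.H1.InfTorsor

/-- ring level: if `A` has a single prime and a retraction onto the field `K`, all ring maps from
`A` to a reduced ring that agree on `K` are equal. -/
theorem ringHom_eq_of_subsingleton {K A R : Type u} [Field K] [CommRing A] [CommRing R]
    [IsReduced R] [Subsingleton (PrimeSpectrum A)]
    (c : K →+* A) (ε : A →+* K) (hε : ε.comp c = RingHom.id K)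
    (ψ₁ ψ₂ : A →+* R) (h : ψ₁.comp c = ψ₂.comp c) : ψ₁ = ψ₂ := by
  have hnil : ∀ a : A, IsNilpotent (a - c (ε a)) → ψ₁ a = ψ₂ a := by
    intro a ha
    have h1 : ψ₁ (a - c (ε a)) = 0 := (ha.map ψ₁).eq_zero
    have h2 : ψ₂ (a - c (ε a)) = 0 := (ha.map ψ₂).eq_zero
    have h3 : ψ₁ (c (ε a)) = ψ₂ (c (ε a)) := RingHom.congr_fun h (ε a)
    rw [map_sub, sub_eq_zero] at h1 h2
    rw [h1, h2, h3]
  have hker : (RingHom.ker ε).IsPrime := RingHom.ker_isPrime ε
  ext a
  apply hnil
  rw [nilpotent_iff_mem_prime]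
  intro J hJ
  have hJ' : J = RingHom.ker ε :=
    congrArg PrimeSpectrum.asIdeal (Subsingleton.elim (⟨J, hJ⟩ : PrimeSpectrum A) ⟨_, hker⟩)
  rw [hJ', RingHom.mem_ker, map_sub, sub_eq_zero]
  exact (RingHom.congr_fun hε (ε a)).symm

variable {K : Type u} [Field K]

/-- a point of an infinitesimal affine group scheme with values in a reduced affine scheme is
trivial. -/
theorem hom_eq_unit (G : Over (Spec (CommRingCat.of K))) [GrpObj G]
    [IsAffine G.left] [Subsingleton ↥G.left]
    (T : Over (Spec (CommRingCat.of K))) [IsReduced T.left] (g : T ⟶ G) :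
    g = toUnit T ≫ η[G] := by
  haveI : Subsingleton (PrimeSpectrum ↑Γ(G.left, ⊤)) := by
    have hinj : Function.Injective (G.left.isoSpec.inv.base : PrimeSpectrum ↑Γ(G.left, ⊤) → ↥G.left) := by
      intro p q hpq
      have := congrArg (G.left.isoSpec.hom.base) hpq
      simpa using this
    exact hinj.subsingleton
  apply Over.OverMorphism.ext
  apply ext_of_isAffine
  apply CommRingCat.hom_ext
  let e : 𝟙_ (Over (Spec (CommRingCat.of K))) ⟶ G := η[G]
  have he : e.left ≫ G.hom = 𝟙 _ := Over.w e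
  refine ringHom_eq_of_subsingleton (K := K)
    (((Scheme.ΓSpecIso (CommRingCat.of K)).inv ≫ G.hom.appTop).hom)
    ((e.left.appTop ≫ (Scheme.ΓSpecIso (CommRingCat.of K)).hom).hom) ?_ _ _ ?_
  · rw [← CommRingCat.hom_comp]
    have : G.hom.appTop ≫ e.left.appTop = 𝟙 _ := by
      rw [← Scheme.Hom.comp_appTop, he]; rfl
    rw [Category.assoc, reassoc_of% this, Iso.inv_hom_id]
    rfl
  · rw [← CommRingCat.hom_comp, ← CommRingCat.hom_comp]
    congr 1
    rw [Category.assoc, Category.assoc, ← Scheme.Hom.comp_appTop, ← Scheme.Hom.comp_appTop,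
      Over.w g, Over.w (toUnit T ≫ η[G])]

/-- **Core lemma.** -/
theorem exists_section (G X : Over (Spec (CommRingCat.of K))) [GrpObj G]
    [IsAffine G.left] [Subsingleton ↥G.left]
    (a : AlgGrp.Action G X) (ha : IsIso (lift a.act (snd G X)))
    (B : Type u) [CommRing B] [Algebra K B] [Nontrivial B] [IsReduced (B ⊗[K] B)]
    (x : Spec (CommRingCat.of B) ⟶ X.left)
    (hx : x ≫ X.hom = Spec.map (CommRingCat.ofHom (algebraMap K B))) :
    ∃ s : Spec (CommRingCat.of K) ⟶ X.left, s ≫ X.hom = 𝟙 _ := by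
  let f : Spec (CommRingCat.of B) ⟶ Spec (CommRingCat.of K) :=
    Spec.map (CommRingCat.ofHom (algebraMap K B))
  let p₁ : Spec (CommRingCat.of (B ⊗[K] B)) ⟶ Spec (CommRingCat.of B) :=
    Spec.map (CommRingCat.ofHom (Algebra.TensorProduct.includeLeftRingHom : B →+* B ⊗[K] B))
  let p₂ : Spec (CommRingCat.of (B ⊗[K] B)) ⟶ Spec (CommRingCat.of B) :=
    Spec.map (CommRingCat.ofHom
      (Algebra.TensorProduct.includeRight : B →ₐ[K] B ⊗[K] B).toRingHom)
  have hpb : IsPullback p₁ p₂ f f :=
    isPullback_SpecMap_of_isPushout _ _ _ _ (CommRingCat.isPushout_tensorProduct K B B)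
  have hp : p₁ ≫ f = p₂ ≫ f := hpb.w
  -- the two pullbacks of `x` agree
  have hxx : p₁ ≫ x = p₂ ≫ x := by
    let TT : Over (Spec (CommRingCat.of K)) := Over.mk (p₁ ≫ f)
    haveI : IsReduced TT.left :=
      (affine_isReduced_iff (CommRingCat.of (B ⊗[K] B))).mpr inferInstance
    let x₁ : TT ⟶ X := Over.homMk (p₁ ≫ x) (by
      change (p₁ ≫ x) ≫ X.hom = p₁ ≫ f
      rw [Category.assoc, hx])
    let x₂ : TT ⟶ X := Over.homMk (p₂ ≫ x) (by
      change (p₂ ≫ x) ≫ X.hom = p₁ ≫ f
      rw [Category.assoc, hx, hp])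
    let φ : G ⊗ X ⟶ X ⊗ X := lift a.act (snd G X)
    haveI : IsIso φ := ha
    let w : TT ⟶ G ⊗ X := lift x₂ x₁ ≫ inv φ
    have hw : w ≫ φ = lift x₂ x₁ := by simp [w]
    have h1 : w ≫ a.act = x₂ := by
      have := congrArg (· ≫ fst X X) hw
      simpa [φ] using this
    have h2 : w ≫ snd G X = x₁ := by
      have := congrArg (· ≫ snd X X) hw
      simpa [φ] using this
    have hg : w ≫ fst G X = toUnit TT ≫ η[G] := hom_eq_unit G TT _
    have hw' : w = lift (toUnit TT ≫ η[G]) x₁ := by
      apply CartesianMonoidalCategory.hom_ext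
      · rw [hg, lift_fst]
      · rw [h2, lift_snd]
    have h3 : lift (toUnit TT ≫ η[G]) x₁ ≫ a.act = x₁ := by
      have : lift (toUnit TT ≫ η[G]) x₁ = lift (toUnit TT) x₁ ≫ (η[G] ▷ X) := by
        apply CartesianMonoidalCategory.hom_ext <;> simp
      rw [this, Category.assoc, a.one_act, leftUnitor_hom, lift_snd]
    have h4 : x₂ = x₁ := by rw [← h1, hw', h3]
    exact (congrArg (fun m => m.left) h4).symm
  -- descent
  haveI : Flat f := by
    rw [HasRingHomProperty.Spec_iff (P := @Flat)]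
    change (algebraMap K B).Flat
    rw [RingHom.flat_algebraMap_iff]
    infer_instance
  haveI : Surjective f := by
    refine ⟨fun y => ?_⟩
    obtain ⟨z⟩ : Nonempty (PrimeSpectrum B) := inferInstance
    exact ⟨z, Subsingleton.elim (α := PrimeSpectrum K) _ _⟩
  refine ⟨EffectiveEpi.desc f x (fun g₁ g₂ h => ?_), ?_⟩
  · have e1 : hpb.lift g₁ g₂ h ≫ p₁ = g₁ := hpb.lift_fst _ _ _
    have e2 : hpb.lift g₁ g₂ h ≫ p₂ = g₂ := hpb.lift_snd _ _ _
    rw [← e1, Category.assoc, hxx, ← Category.assoc, e2]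
  · rw [← cancel_epi f, ← Category.assoc, EffectiveEpi.fac, hx, Category.comp_id]

end Groth.Agent.H1.InfTorsor
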