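import Groth.Agent.H1.InfTorsor.Conn

/-!
# helper1: torsors under infinitesimal group schemes become trivial after a Frobenius twist

If every element of the augmentation ideal of `G` is killed by the `p^n`-th power, then any
pseudo-torsor `X` under `G` with a point in a nonzero `K`-algebra `B` has a point with values in
`K` regarded as a `K`-algebra through `Frob^n` (descent of the Frobenius twist of the point: the
two pullbacks to `B ⊗ B` differ by a point of `G` which the Frobenius twist kills).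
-/

set_option autoImplicit false
universe u
open CategoryTheory Limits MonoidalCategory CartesianMonoidalCategory MonObj GrpObj AlgebraicGeometry
  TensorProduct

namespace Groth.Agent.H1.InfTorsor

variable {K : Type u} [Field K]

/-- a point of `G` composed with a morphism killing `N`-nilpotent functions is trivial, when the
augmentation ideal of `G` consists of `N`-nilpotent elements. -/
theorem hom_comp_eq_unit (G : Over (Spec (CommRingCat.of K))) [GrpObj G] [IsAffine G.left]
    (N : ℕ)
    (hN : ∀ a : Γ(G.left, ⊤), (η[G] : 𝟙_ (Over (Spec (CommRingCat.of K))) ⟶ G).left.appTop a = 0 →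
      a ^ N = 0)
    (T' T'' : Over (Spec (CommRingCat.of K))) (F : T'' ⟶ T')
    (hF : ∀ t : Γ(T'.left, ⊤), t ^ N = 0 → F.left.appTop t = 0) (g : T' ⟶ G) :
    F ≫ g = toUnit T'' ≫ η[G] := by
  apply Over.OverMorphism.ext
  apply ext_of_isAffine
  apply CommRingCat.hom_ext
  let e : 𝟙_ (Over (Spec (CommRingCat.of K))) ⟶ G := η[G]
  have he : e.left ≫ G.hom = 𝟙 _ := Over.w e
  have hec : G.hom.appTop ≫ e.left.appTop = 𝟙 _ := by
    rw [← Scheme.Hom.comp_appTop, he]; rfl
  ext a
  have ha₁ : e.left.appTop (a - G.hom.appTop (e.left.appTop a)) = 0 := by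
    rw [map_sub, sub_eq_zero, ← CommRingCat.comp_apply, hec]
    rfl
  have h1 : (F ≫ g).left.appTop (a - G.hom.appTop (e.left.appTop a)) = 0 := by
    rw [Over.comp_left, Scheme.Hom.comp_appTop, CommRingCat.comp_apply]
    apply hF
    rw [← map_pow, hN _ ha₁, map_zero]
  have h2 : (toUnit T'' ≫ η[G]).left.appTop (a - G.hom.appTop (e.left.appTop a)) = 0 := by
    rw [Over.comp_left, Scheme.Hom.comp_appTop, CommRingCat.comp_apply]
    change (toUnit T'').left.appTop (e.left.appTop _) = 0
    rw [ha₁, map_zero]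
  have h3 : (F ≫ g).left.appTop (G.hom.appTop (e.left.appTop a)) =
      (toUnit T'' ≫ η[G]).left.appTop (G.hom.appTop (e.left.appTop a)) := by
    rw [← CommRingCat.comp_apply, ← CommRingCat.comp_apply (G.hom.appTop),
      ← Scheme.Hom.comp_appTop, ← Scheme.Hom.comp_appTop, Over.w (F ≫ g),
      Over.w (toUnit T'' ≫ η[G])]
  have hdec : a = G.hom.appTop (e.left.appTop a) + (a - G.hom.appTop (e.left.appTop a)) := by
    ring
  rw [hdec, map_add, map_add, h1, h2, h3]

theorem isArtinianRing_of_isFinite (G : Over (Spec (CommRingCat.of K))) [IsFinite G.hom] :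
    IsArtinianRing Γ(G.left, ⊤) := by
  haveI : IsAffine G.left := isAffine_of_isAffineHom G.hom
  have hfin : (G.hom.appTop).hom.Finite := Scheme.Hom.finite_appTop G.hom
  let φ : K →+* Γ(G.left, ⊤) := ((Scheme.ΓSpecIso (CommRingCat.of K)).inv ≫ G.hom.appTop).hom
  have hφ : φ.Finite := by
    have h1 : ((Scheme.ΓSpecIso (CommRingCat.of K)).inv).hom.Finite :=
      RingHom.Finite.of_surjective _
        ((ConcreteCategory.bijective_of_isIso (Scheme.ΓSpecIso (CommRingCat.of K)).inv).2)
    exact hfin.comp h1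
  letI := φ.toAlgebra
  haveI : Module.Finite K Γ(G.left, ⊤) := hφ
  exact IsArtinianRing.of_finite K _

/-- uniform nilpotency of the augmentation ideal of a finite connected group scheme. -/
theorem exists_nilpotency_bound (G : Over (Spec (CommRingCat.of K))) [GrpObj G] [IsFinite G.hom]
    [ConnectedSpace G.left] :
    ∃ N : ℕ, ∀ a : Γ(G.left, ⊤),
      (η[G] : 𝟙_ (Over (Spec (CommRingCat.of K))) ⟶ G).left.appTop a = 0 → a ^ N = 0 := by
  haveI : IsAffine G.left := isAffine_of_isAffineHom G.hom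
  haveI := subsingleton_of_isFinite_of_connected G
  haveI := isArtinianRing_of_isFinite G
  haveI : Subsingleton (PrimeSpectrum ↑Γ(G.left, ⊤)) := by
    have hinj : Function.Injective
        (G.left.isoSpec.inv.base : PrimeSpectrum ↑Γ(G.left, ⊤) → ↥G.left) := by
      intro p q hpq
      have := congrArg (G.left.isoSpec.hom.base) hpq
      simpa using this
    exact hinj.subsingleton
  obtain ⟨N, hN⟩ := IsArtinianRing.isNilpotent_nilradical (R := ↑Γ(G.left, ⊤))
  refine ⟨N, fun a ha => ?_⟩
  let e : 𝟙_ (Over (Spec (CommRingCat.of K))) ⟶ G := η[G]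
  let ε : Γ(G.left, ⊤) →+* K := (e.left.appTop ≫ (Scheme.ΓSpecIso (CommRingCat.of K)).hom).hom
  have hker : (RingHom.ker ε).IsPrime := RingHom.ker_isPrime ε
  have hmem : a ∈ nilradical ↑Γ(G.left, ⊤) := by
    rw [mem_nilradical, nilpotent_iff_mem_prime]
    intro J hJ
    have hJ' : J = RingHom.ker ε :=
      congrArg PrimeSpectrum.asIdeal
        (Subsingleton.elim (⟨J, hJ⟩ : PrimeSpectrum ↑Γ(G.left, ⊤)) ⟨_, hker⟩)
    rw [hJ', RingHom.mem_ker]
    change (Scheme.ΓSpecIso (CommRingCat.of K)).hom (e.left.appTop a) = 0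
    rw [ha, map_zero]
  have : a ^ N ∈ nilradical ↑Γ(G.left, ⊤) ^ N := Ideal.pow_mem_pow hmem N
  rw [hN] at this
  exact this

/-- **Frobenius-twisted core lemma.** -/
theorem exists_section_frob (G X : Over (Spec (CommRingCat.of K))) [GrpObj G]
    [IsAffine G.left] (p : ℕ) [ExpChar K p] (n : ℕ)
    (hN : ∀ a : Γ(G.left, ⊤),
      (η[G] : 𝟙_ (Over (Spec (CommRingCat.of K))) ⟶ G).left.appTop a = 0 → a ^ (p ^ n) = 0)
    (a : AlgGrp.Action G X) (ha : IsIso (lift a.act (snd G X)))
    (B : Type u) [CommRing B] [Algebra K B] [Nontrivial B]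
    (x : Spec (CommRingCat.of B) ⟶ X.left)
    (hx : x ≫ X.hom = Spec.map (CommRingCat.ofHom (algebraMap K B))) :
    ∃ s : Spec (CommRingCat.of K) ⟶ X.left,
      s ≫ X.hom = Spec.map (CommRingCat.ofHom (iterateFrobenius K p n)) := by
  haveI : ExpChar B p := expChar_of_injective_algebraMap (algebraMap K B).injective p
  have hinj : Function.Injective
      (Algebra.TensorProduct.includeLeftRingHom : B →+* B ⊗[K] B) :=
    Algebra.TensorProduct.includeLeft_injective (S := K) (algebraMap K B).injective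
  haveI : ExpChar (B ⊗[K] B) p := expChar_of_injective_ringHom hinj p
  let f : Spec (CommRingCat.of B) ⟶ Spec (CommRingCat.of K) :=
    Spec.map (CommRingCat.ofHom (algebraMap K B))
  let p₁ : Spec (CommRingCat.of (B ⊗[K] B)) ⟶ Spec (CommRingCat.of B) :=
    Spec.map (CommRingCat.ofHom (Algebra.TensorProduct.includeLeftRingHom : B →+* B ⊗[K] B))
  let p₂ : Spec (CommRingCat.of (B ⊗[K] B)) ⟶ Spec (CommRingCat.of B) :=
    Spec.map (CommRingCat.ofHom
      (Algebra.TensorProduct.includeRight : B →ₐ[K] B ⊗[K] B).toRingHom)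
  let FB : Spec (CommRingCat.of B) ⟶ Spec (CommRingCat.of B) :=
    Spec.map (CommRingCat.ofHom (iterateFrobenius B p n))
  let FC : Spec (CommRingCat.of (B ⊗[K] B)) ⟶ Spec (CommRingCat.of (B ⊗[K] B)) :=
    Spec.map (CommRingCat.ofHom (iterateFrobenius (B ⊗[K] B) p n))
  let FK : Spec (CommRingCat.of K) ⟶ Spec (CommRingCat.of K) :=
    Spec.map (CommRingCat.ofHom (iterateFrobenius K p n))
  have hpb : IsPullback p₁ p₂ f f :=
    isPullback_SpecMap_of_isPushout _ _ _ _ (CommRingCat.isPushout_tensorProduct K B B)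
  have hp : p₁ ≫ f = p₂ ≫ f := hpb.w
  -- naturality of Frobenius
  have hF1 : p₁ ≫ FB = FC ≫ p₁ := by
    simp only [p₁, FB, FC, ← Spec.map_comp, ← CommRingCat.ofHom_comp]
    congr 2
    ext b
    simp [iterateFrobenius_def]
  have hF2 : p₂ ≫ FB = FC ≫ p₂ := by
    simp only [p₂, FB, FC, ← Spec.map_comp, ← CommRingCat.ofHom_comp]
    congr 2
    ext b
    simp [iterateFrobenius_def]
  have hF3 : FB ≫ f = f ≫ FK := by
    simp only [f, FB, FK, ← Spec.map_comp, ← CommRingCat.ofHom_comp]
    congr 2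
    ext b
    simp [iterateFrobenius_def]
  -- the two pullbacks of the twisted point agree
  have hxx : FC ≫ p₁ ≫ x = FC ≫ p₂ ≫ x := by
    let T' : Over (Spec (CommRingCat.of K)) := Over.mk (p₁ ≫ f)
    let TT : Over (Spec (CommRingCat.of K)) := Over.mk (FC ≫ p₁ ≫ f)
    let Fr : TT ⟶ T' := Over.homMk FC rfl
    let x₁ : T' ⟶ X := Over.homMk (p₁ ≫ x) (by
      change (p₁ ≫ x) ≫ X.hom = p₁ ≫ f
      rw [Category.assoc, hx])
    let x₂ : T' ⟶ X := Over.homMk (p₂ ≫ x) (by
      change (p₂ ≫ x) ≫ X.hom = p₁ ≫ f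
      rw [Category.assoc, hx, hp])
    let φ : G ⊗ X ⟶ X ⊗ X := lift a.act (snd G X)
    haveI : IsIso φ := ha
    let w : T' ⟶ G ⊗ X := lift x₂ x₁ ≫ inv φ
    have hw : w ≫ φ = lift x₂ x₁ := by simp [w]
    have h1 : w ≫ a.act = x₂ := by
      have := congrArg (· ≫ fst X X) hw
      simpa [φ] using this
    have h2 : w ≫ snd G X = x₁ := by
      have := congrArg (· ≫ snd X X) hw
      simpa [φ] using this
    have hFr : ∀ t : Γ(T'.left, ⊤), t ^ (p ^ n) = 0 → Fr.left.appTop t = 0 := by
      intro t ht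
      change (Spec.map (CommRingCat.ofHom (iterateFrobenius (B ⊗[K] B) p n))).appTop t = 0
      have hnat := Scheme.ΓSpecIso_naturality
        (CommRingCat.ofHom (iterateFrobenius (B ⊗[K] B) p n))
      have h5 : (Scheme.ΓSpecIso (CommRingCat.of (B ⊗[K] B))).hom
          ((Spec.map (CommRingCat.ofHom (iterateFrobenius (B ⊗[K] B) p n))).appTop t) = 0 := by
        rw [← CommRingCat.comp_apply, hnat, CommRingCat.comp_apply]
        change iterateFrobenius (B ⊗[K] B) p n _ = 0
        rw [iterateFrobenius_def, ← map_pow, ht, map_zero]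
      have hinj' : Function.Injective (Scheme.ΓSpecIso (CommRingCat.of (B ⊗[K] B))).hom :=
        (ConcreteCategory.bijective_of_isIso _).1
      exact hinj' (h5.trans (map_zero _).symm)
    have hg : Fr ≫ (w ≫ fst G X) = toUnit TT ≫ η[G] :=
      hom_comp_eq_unit G (p ^ n) hN T' TT Fr hFr _
    have hw' : Fr ≫ w = lift (toUnit TT ≫ η[G]) (Fr ≫ x₁) := by
      apply CartesianMonoidalCategory.hom_ext
      · rw [Category.assoc, hg, lift_fst]
      · rw [Category.assoc, h2, lift_snd]
    have h3 : lift (toUnit TT ≫ η[G]) (Fr ≫ x₁) ≫ a.act = Fr ≫ x₁ := by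
      have : lift (toUnit TT ≫ η[G]) (Fr ≫ x₁) = lift (toUnit TT) (Fr ≫ x₁) ≫ (η[G] ▷ X) := by
        apply CartesianMonoidalCategory.hom_ext <;> simp
      rw [this, Category.assoc, a.one_act, leftUnitor_hom, lift_snd]
    have h4 : Fr ≫ x₂ = Fr ≫ x₁ := by rw [← h1, ← Category.assoc, hw', h3]
    exact (congrArg (fun m => m.left) h4).symm
  -- descent
  haveI : Flat f := by
    rw [HasRingHomProperty.Spec_iff (P := @Flat)]
    change (algebraMap K B).Flat
    rw [RingHom.flat_algebraMap_iff]
    infer_instance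
  haveI : Surjective f := by
    refine ⟨fun y => ?_⟩
    obtain ⟨z⟩ : Nonempty (PrimeSpectrum B) := inferInstance
    exact ⟨z, Subsingleton.elim (α := PrimeSpectrum K) _ _⟩
  refine ⟨EffectiveEpi.desc f (FB ≫ x) (fun g₁ g₂ h => ?_), ?_⟩
  · have e1 : hpb.lift g₁ g₂ h ≫ p₁ = g₁ := hpb.lift_fst _ _ _
    have e2 : hpb.lift g₁ g₂ h ≫ p₂ = g₂ := hpb.lift_snd _ _ _
    rw [← e1, Category.assoc, ← Category.assoc p₁, hF1, Category.assoc, hxx, ← Category.assoc FC,
      ← hF2, Category.assoc, ← Category.assoc, e2]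
  · rw [← cancel_epi f, ← Category.assoc, EffectiveEpi.fac, Category.assoc, hx]
    exact hF3

/-- fppf torsors under a finite connected group scheme over a field of exponential
characteristic `p` are uniformly trivialised by a power of Frobenius. -/
theorem exists_frobenius_bound (p : ℕ) [ExpChar K p]
    (G : Over (Spec (CommRingCat.of K))) [GrpObj G] [IsFinite G.hom] [ConnectedSpace G.left] :
    ∃ n : ℕ, ∀ (X : Over (Spec (CommRingCat.of K))) (a : AlgGrp.Action G X),
      NonAbH1.IsTorsorFor Scheme.fppfPrecoverage a →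
      NonAbH1.HasSectionOver X (Spec.map (CommRingCat.ofHom (iterateFrobenius K p n))) := by
  haveI : IsAffine G.left := isAffine_of_isAffineHom G.hom
  rcases expChar_is_prime_or_one K p with hp | hp1
  · obtain ⟨N, hN⟩ := exists_nilpotency_bound G
    refine ⟨N, fun X a h => ?_⟩
    have hlt : N ≤ p ^ N := (Nat.lt_pow_self hp.one_lt).le
    obtain ⟨Y, f, hf, hne, s, hs⟩ :=
      exists_member (P := @Flat ⊓ @LocallyOfFinitePresentation) X h.2
    obtain ⟨R, j, hj, hR⟩ := exists_affine_point Y
    let φ := Spec.preimage (j ≫ f)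
    have hφ : Spec.map φ = j ≫ f := Spec.map_preimage _
    letI := φ.hom.toAlgebra
    refine exists_section_frob G X p N (fun a ha => pow_eq_zero_of_le hlt (hN a ha)) a h.1 R
      (j ≫ s) ?_
    rw [Category.assoc, hs, ← hφ]
    rfl
  · subst hp1
    haveI : CharZero K := charZero_of_expChar_one' K
    refine ⟨0, fun X a h => ?_⟩
    have := hasSection_fppf_perfect G X a h
    rw [iterateFrobenius_zero, CommRingCat.ofHom_id, Spec.map_id]
    exact this

end Groth.Agent.H1.InfTorsor
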